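import Groth.Agent.H84.Segre.Dim1
import Groth.Agent.H83.Elem.SegreNoeth
import Groth.Agent.H19.Veronese.Local
import Groth.Agent.H19.Veronese.Macaulay
import Groth.Agent.H19.Bass.GorLocal
import Groth.Agent.Lib.Goren.Rings

/-!
# Gorenstein Segre products of one-dimensional standard graded algebras
-/

set_option autoImplicit false
set_option linter.unusedSectionVars false
set_option linter.style.haveILetI false
set_option linter.overlappingInstances false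

universe u

open TensorProduct RingTheory.Sequence DirectSum
open Groth.Agent.Lib Groth.Agent.H84.Segre

namespace Groth.Agent.H19.Segre.DimOne

variable {k : Type u} [Field k]

section One

variable {R : Type u} [CommRing R] [Algebra k R] (𝒜 : ℤ → Submodule k R) [GradedAlgebra 𝒜]
  (hpos : ∀ n : ℤ, n < 0 → 𝒜 n = ⊥) (h0 : 𝒜 0 = Submodule.span k {(1 : R)})
  (hstd : Ideal.span (⋃ n ∈ Set.Ioi (0 : ℤ), (𝒜 n : Set R)) = Ideal.span ((𝒜 1 : Submodule k R) : Set R))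

include h0 in
theorem isField_deg0 [Nontrivial R] : IsField (GrLC.deg0 𝒜) where
  exists_pair_ne := ⟨0, 1, fun h ↦ zero_ne_one (congrArg Subtype.val h)⟩
  mul_comm := mul_comm
  mul_inv_cancel := fun {a} ha ↦ by
    obtain ⟨c, hc⟩ := Submodule.mem_span_singleton.1 (h0.le (show (a : R) ∈ 𝒜 0 from a.2))
    have hc0 : c ≠ 0 := fun h ↦ ha (Subtype.ext (by rw [← hc, h, zero_smul]; rfl))
    refine ⟨⟨c⁻¹ • (1 : R), (𝒜 0).smul_mem _ (SetLike.one_mem_graded 𝒜)⟩, Subtype.ext ?_⟩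
    show (a : R) * (c⁻¹ • (1 : R)) = 1
    rw [← hc, smul_mul_smul_comm, mul_inv_cancel₀ hc0, one_mul, one_smul]

/-- The underlying grading by subgroups. -/
@[instance_reducible]
noncomputable def grAdd : GradedRing fun n ↦ (𝒜 n).toAddSubgroup :=
  { one_mem := SetLike.one_mem_graded 𝒜
    mul_mem := fun {i j a b} ha hb ↦ SetLike.mul_mem_graded (A := 𝒜) ha hb
    decompose' := (DirectSum.Decomposition.decompose' : R → ⨁ i, 𝒜 i)
    left_inv := DirectSum.Decomposition.left_inv (ℳ := 𝒜)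
    right_inv := DirectSum.Decomposition.right_inv (ℳ := 𝒜) }

include hstd h0 in
/-- A line in positive degree is followed by lines. -/
theorem exists_line_add [Nontrivial R] {n : ℤ} (hn : 1 ≤ n) {z : R} (hz : z ∈ 𝒜 n)
    (hline : 𝒜 n ≤ Submodule.span k {z}) (e : ℕ) :
    ∃ z', 𝒜 (n + e) ≤ Submodule.span k {z'} := by
  letI := grAdd 𝒜
  have h0' : IsField (GrLC.deg0 fun n ↦ (𝒜 n).toAddSubgroup) := isField_deg0 𝒜 h0
  have hc : Veronese.Macaulay.IsCyclic (fun n ↦ (𝒜 n).toAddSubgroup) (n + e) := by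
    induction e with
    | zero =>
      rw [Nat.cast_zero, add_zero]
      refine ⟨z, hz, fun x hx ↦ ?_⟩
      obtain ⟨c, hc⟩ := Submodule.mem_span_singleton.1 (hline hx)
      exact ⟨c • (1 : R), (𝒜 0).smul_mem c (SetLike.one_mem_graded 𝒜), by rw [smul_one_mul, hc]⟩
    | succ e ih =>
      rw [Nat.cast_succ, ← add_assoc]
      exact Veronese.Macaulay.isCyclic_succ h0' hstd (by omega) ih
  obtain ⟨z', -, hz'⟩ := hc
  refine ⟨z', fun x hx ↦ ?_⟩
  obtain ⟨c, hc, rfl⟩ := hz' x hx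
  obtain ⟨c, rfl⟩ := Submodule.mem_span_singleton.1 (h0.le hc)
  exact Submodule.mem_span_singleton.2 ⟨c, by rw [smul_one_mul]⟩

include hpos h0 hstd in
/-- With a regular element, a line in positive degree means the polynomial ring. -/
theorem exists_bijective_aeval [Nontrivial R] {D : ℕ} (hD : 0 < D) {x : R} (hx : x ∈ 𝒜 D)
    (hxr : ∀ a, x * a = 0 → a = 0) {n : ℤ} (hn : 1 ≤ n) {z : R} (hz : z ∈ 𝒜 n)
    (hline : 𝒜 n ≤ Submodule.span k {z}) :
    ∃ l ∈ 𝒜 1, Function.Bijective (Polynomial.aeval (R := k) l) := by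
  classical
  have hxj : ∀ j : ℕ, ∀ a, x ^ j * a = 0 → a = 0 := by
    intro j
    induction j with
    | zero => simp
    | succ j ih => intro a ha; exact hxr a (ih _ (by rw [← mul_assoc, ← pow_succ]; exact ha))
  have hxmem : ∀ j : ℕ, x ^ j ∈ 𝒜 ((j * D : ℕ) : ℤ) := fun j ↦ by
    simpa [nsmul_eq_mul] using SetLike.pow_mem_graded (A := 𝒜) j hx
  -- a line in degree `1 + jD`
  obtain ⟨e, he⟩ := Int.le.dest (show n ≤ ((n.toNat * D : ℕ) : ℤ) + 1 by
    have h1 : n.toNat ≤ n.toNat * D := Nat.le_mul_of_pos_right _ hD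
    omega)
  obtain ⟨z', hz'⟩ := exists_line_add 𝒜 h0 hstd hn hz hline e
  rw [he] at hz'
  obtain ⟨l, hl, hl1⟩ : ∃ l ∈ 𝒜 1, 𝒜 1 ≤ Submodule.span k {l} := by
    by_cases h1 : 𝒜 1 = ⊥
    · exact ⟨0, zero_mem _, h1 ▸ bot_le⟩
    obtain ⟨l, hl, hl0⟩ := (Submodule.ne_bot_iff _).1 h1
    refine ⟨l, hl, fun a ha ↦ ?_⟩
    have hmem : ∀ b ∈ 𝒜 1, ∃ c : k, x ^ n.toNat * b = c • z' := fun b hb ↦ by
      obtain ⟨c, hc⟩ := Submodule.mem_span_singleton.1
        (hz' (SetLike.mul_mem_graded (hxmem n.toNat) hb))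
      exact ⟨c, hc.symm⟩
    obtain ⟨c, hc⟩ := hmem l hl
    obtain ⟨d, hd⟩ := hmem a ha
    have hc0 : c ≠ 0 := fun h ↦ hl0 (hxj _ _ (by rw [hc, h, zero_smul]))
    refine Submodule.mem_span_singleton.2 ⟨d * c⁻¹, sub_eq_zero.1 (hxj n.toNat _ ?_)⟩
    rw [mul_sub, mul_smul_comm, hc, hd, smul_smul, mul_assoc, inv_mul_cancel₀ hc0, mul_one, sub_self]
  refine ⟨l, hl, Dim1.polynomial_of_line 𝒜 hpos h0 hstd l hl hl1 fun j hj ↦ ?_⟩
  have hj' : l ^ (j * D) = 0 := by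
    rcases Nat.eq_zero_or_pos j with rfl | hjpos
    · exact absurd (by simpa using hj) (one_ne_zero : (1 : R) ≠ 0)
    · rw [show j * D = j + (j * D - j) by have := Nat.le_mul_of_pos_right j hD; omega, pow_add, hj,
        zero_mul]
  obtain ⟨c, hc⟩ := Submodule.mem_span_singleton.1
    (Dim1.eq_span_pow 𝒜 hpos h0 hstd l hl1 (j * D) (hxmem j))
  rw [hj', smul_zero] at hc
  exact one_ne_zero (hxj j 1 (by rw [← hc, zero_mul]))

include hpos h0 hstd in
/-- A one-dimensional Cohen–Macaulay standard graded algebra: a regular element of positive degree,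
from some degree on surjective. -/
theorem exists_stable [Algebra.FiniteType k R] [LocCoh.IsCohenMacaulayRing R]
    (hr : ringKrullDim R = 1) :
    ∃ (D : ℕ) (x : R) (N : ℕ), 0 < D ∧ x ∈ 𝒜 D ∧ (∀ a, x * a = 0 → a = 0) ∧
      ∀ n : ℤ, (N : ℤ) ≤ n → ∀ b ∈ 𝒜 n, ∃ a ∈ 𝒜 (n - D), b = x * a := by
  classical
  have := Algebra.FiniteType.isNoetherianRing k R
  obtain ⟨D, x, hD, hxD, hxr, hxp⟩ :=
    Dim1.exists_regular_params 𝒜 hpos h0 1 (by exact_mod_cast hr)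
  have hrange : Set.range x = {x 0} := by
    ext y; simp [Fin.exists_fin_one, eq_comm]
  let I : Ideal R := Ideal.span ((𝒜 1 : Submodule k R) : Set R)
  have hle : I ≤ (Ideal.span {x 0}).radical := by
    rw [Ideal.span_le]
    intro a ha
    rw [← hrange]
    exact hxp 1 one_pos a (by simpa using ha)
  obtain ⟨N, hN⟩ := Ideal.exists_pow_le_of_le_radical_of_fg hle (IsNoetherian.noetherian _)
  have hpow : ∀ (M : ℕ), ∀ n : ℤ, (M : ℤ) ≤ n → ∀ b ∈ 𝒜 n, b ∈ I ^ M := by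
    intro M
    induction M with
    | zero => intro n _ b _; rw [pow_zero, Ideal.one_eq_top]; trivial
    | succ M ih =>
      intro n hn b hb
      refine (Submodule.span_le (p := (I ^ (M + 1)).restrictScalars k)).2 ?_
        (Mod.exists_sum_mul_of_std 𝒜 hstd (n := n) (by omega) hb)
      rintro _ ⟨y, hy, c, hc, rfl⟩
      show y * c ∈ I ^ (M + 1)
      rw [pow_succ']
      exact Ideal.mul_mem_mul (Ideal.subset_span hy) (ih (n - 1) (by omega) c hc)
  refine ⟨D, x 0, N, hD, hxD 0, hxr 0, fun n hn b hb ↦ ?_⟩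
  obtain ⟨a, ha⟩ := Ideal.mem_span_singleton.1 (hN (hpow N n hn b hb))
  refine ⟨decompose 𝒜 a (n - D), (decompose 𝒜 a (n - D)).2, ?_⟩
  have h2 := coe_decompose_mul_add_of_right_mem 𝒜 (a := a) (i := n - D) (hxD 0)
  rw [sub_add_cancel, mul_comm a, ← ha, decompose_of_mem_same 𝒜 hb] at h2
  rw [h2, mul_comm]

include hpos h0 hstd in
/-- The last degree in which multiplication is not surjective. -/
theorem exists_top [Nontrivial R] {D : ℕ} (hD : 0 < D) {x : R} (hx : x ∈ 𝒜 D)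
    (hxr : ∀ a, x * a = 0 → a = 0) {N : ℕ}
    (hN : ∀ n : ℤ, (N : ℤ) ≤ n → ∀ b ∈ 𝒜 n, ∃ a ∈ 𝒜 (n - D), b = x * a)
    (hpoly : ∀ l ∈ 𝒜 1, ¬ Function.Bijective (Polynomial.aeval (R := k) l)) :
    ∃ a : ℤ, 0 ≤ a ∧ (∃ v ∈ 𝒜 (a + D), ∀ b ∈ 𝒜 a, v ≠ x * b) ∧
      ∀ i : ℤ, a < i → ∀ v ∈ 𝒜 (i + D), ∃ b ∈ 𝒜 i, v = x * b := by
  classical
  let P : ℕ → Prop := fun a ↦ ∃ v ∈ 𝒜 ((a : ℤ) + D), ∀ b ∈ 𝒜 (a : ℤ), v ≠ x * b
  have hP0 : P 0 := by
    by_contra hP
    simp only [P, Nat.cast_zero, not_exists, not_and, not_forall] at hP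
    obtain ⟨l, hl, hb⟩ := exists_bijective_aeval 𝒜 hpos h0 hstd hD hx hxr
      (n := (D : ℤ)) (by omega) hx fun v hv ↦ by
        obtain ⟨b, hb, hvb⟩ := hP v (by rwa [zero_add])
        obtain ⟨c, rfl⟩ := Submodule.mem_span_singleton.1 (h0.le hb)
        refine Submodule.mem_span_singleton.2 ⟨c, ?_⟩
        rw [not_not.1 hvb, mul_smul_comm, mul_one]
    exact hpoly l hl hb
  refine ⟨(Nat.findGreatest P N : ℤ), Int.natCast_nonneg _,
    Nat.findGreatest_spec (Nat.zero_le N) hP0, fun i hi v hv ↦ ?_⟩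
  rcases lt_or_ge i (N : ℤ) with hlt | hge
  · obtain ⟨i, rfl⟩ := Int.eq_ofNat_of_zero_le (show 0 ≤ i by omega)
    have := Nat.findGreatest_is_greatest (P := P) (show Nat.findGreatest P N < i by omega) (by omega)
    simp only [P, not_exists, not_and, not_forall, not_not] at this
    obtain ⟨b, hb, hvb⟩ := this v hv
    exact ⟨b, hb, hvb⟩
  · obtain ⟨b, hb, hvb⟩ := hN (i + D) (by omega) v hv
    exact ⟨b, by rwa [add_sub_cancel_right] at hb, hvb⟩

end One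

section Two

variable {R S : Type u} [CommRing R] [Algebra k R] [CommRing S] [Algebra k S]

/-- Pure tensors with an outside vector and independent partners stay independent. -/
theorem eq_zero_of_tmul_mem {A : Submodule k R} {v : R} (hv : v ∉ A) {w : Fin 2 → S}
    (hw : LinearIndependent k w) {W : Submodule k (R ⊗[k] S)}
    (hW : W ≤ Submodule.span k {z | ∃ a ∈ A, ∃ b : S, z = a ⊗ₜ[k] b}) {c : Fin 2 → k}
    (hc : ∑ i, c i • (v ⊗ₜ[k] w i) ∈ W) : ∀ i, c i = 0 := by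
  obtain ⟨f, hfv, hfA⟩ := Submodule.exists_dual_map_eq_bot_of_notMem hv inferInstance
  let F : R ⊗[k] S →ₗ[k] S := (TensorProduct.lid k S).toLinearMap ∘ₗ LinearMap.rTensor S f
  have hF : ∀ a b, F (a ⊗ₜ[k] b) = f a • b := fun a b ↦ by simp [F]
  have hzero : Submodule.span k {z : R ⊗[k] S | ∃ a ∈ A, ∃ b : S, z = a ⊗ₜ[k] b} ≤ LinearMap.ker F := by
    rw [Submodule.span_le]
    rintro _ ⟨a, ha, b, rfl⟩
    have : f a = 0 := (Submodule.mem_bot k).1 (hfA ▸ Submodule.mem_map_of_mem ha)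
    simp [hF, this]
  have h1 := LinearMap.mem_ker.1 (hzero (hW hc))
  simp only [map_sum, map_smul, hF, smul_smul] at h1
  intro i
  exact (mul_eq_zero.1 (Fintype.linearIndependent_iff.1 hw _ h1 i)).resolve_right hfv

/-- A space that is not a line contains two independent vectors. -/
theorem exists_pair {B : Submodule k S} (h : ∀ z ∈ B, ¬ B ≤ Submodule.span k {z}) :
    ∃ w : Fin 2 → S, LinearIndependent k w ∧ ∀ i, w i ∈ B := by
  obtain ⟨z, hz, hz0⟩ := (Submodule.ne_bot_iff B).1 fun hb ↦ h 0 B.zero_mem (hb ▸ bot_le)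
  obtain ⟨y, hy, hyz⟩ := SetLike.not_le_iff_exists.1 (h z hz)
  refine ⟨![z, y], LinearIndependent.pair_iff' hz0 |>.2 fun c hc ↦ hyz
    (Submodule.mem_span_singleton.2 ⟨c, hc⟩), fun i ↦ by fin_cases i <;> simpa⟩

variable (𝒜 : ℤ → Submodule k R) [GradedAlgebra 𝒜] (ℬ : ℤ → Submodule k S) [GradedAlgebra ℬ]
  {T : Type u} [CommRing T] [Algebra k T] (𝒯 : ℤ → Submodule k T) [GradedAlgebra 𝒯]
  (ψ : T →ₐ[k] R ⊗[k] S) (hψ : Function.Injective ψ)
  (hdegT : ∀ n : ℤ, (𝒯 n).map ψ.toLinearMap =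
    Submodule.span k {x : R ⊗[k] S | ∃ a ∈ 𝒜 n, ∃ b ∈ ℬ n, x = a ⊗ₜ[k] b})

include hdegT in
theorem exists_preimage {n : ℤ} {a : R} {b : S} (ha : a ∈ 𝒜 n) (hb : b ∈ ℬ n) :
    ∃ t ∈ 𝒯 n, ψ t = a ⊗ₜ[k] b := by
  have h : a ⊗ₜ[k] b ∈ (𝒯 n).map ψ.toLinearMap := by
    rw [hdegT]; exact Submodule.subset_span ⟨a, ha, b, hb, rfl⟩
  exact Submodule.mem_map.1 h

variable (hposR : ∀ n : ℤ, n < 0 → 𝒜 n = ⊥) (h0R : 𝒜 0 = Submodule.span k {(1 : R)})
  (hposS : ∀ n : ℤ, n < 0 → ℬ n = ⊥) (h0S : ℬ 0 = Submodule.span k {(1 : S)})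

include hψ hdegT hposR in
theorem pos_T : ∀ n : ℤ, n < 0 → 𝒯 n = ⊥ := by
  intro n hn
  refine (Submodule.eq_bot_iff _).mpr fun t ht => hψ ?_
  have h : ψ.toLinearMap t ∈ (𝒯 n).map ψ.toLinearMap := Submodule.mem_map_of_mem ht
  rw [hdegT] at h
  rw [map_zero]
  refine (Submodule.mem_bot k).mp (Submodule.span_le.mpr ?_ h)
  rintro _ ⟨a, ha, b, -, rfl⟩
  rw [hposR n hn, Submodule.mem_bot] at ha
  simp [ha]

include hψ hdegT h0R h0S in
theorem zero_T : 𝒯 0 = Submodule.span k {(1 : T)} := by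
  refine le_antisymm (fun t ht => ?_) (by
    rw [Submodule.span_le, Set.singleton_subset_iff]; exact SetLike.one_mem_graded 𝒯)
  have h : ψ.toLinearMap t ∈ (𝒯 0).map ψ.toLinearMap := Submodule.mem_map_of_mem ht
  rw [hdegT] at h
  have h' : ψ t ∈ Submodule.span k {(1 : R ⊗[k] S)} := by
    refine Submodule.span_le.mpr ?_ h
    rintro _ ⟨a, ha, b, hb, rfl⟩
    obtain ⟨c, rfl⟩ := Submodule.mem_span_singleton.mp (h0R.le ha)
    obtain ⟨c', rfl⟩ := Submodule.mem_span_singleton.mp (h0S.le hb)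
    refine Submodule.mem_span_singleton.mpr ⟨c * c', ?_⟩
    simp [Algebra.TensorProduct.one_def, TensorProduct.smul_tmul', smul_smul, mul_comm]
  obtain ⟨c, hc⟩ := Submodule.mem_span_singleton.mp h'
  exact Submodule.mem_span_singleton.mpr ⟨c, hψ (by rw [← hc, map_smul, map_one])⟩

include hψ hdegT in
theorem isNoetherianRing_T [Algebra.FiniteType k R] [Algebra.FiniteType k S] : IsNoetherianRing T := by
  classical
  refine Groth.Agent.H83.SegreNoeth.isNoetherianRing_diag 𝒜 ℬ ψ hψ ?_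
  refine le_antisymm ?_ (iSup_le fun n ↦ (hdegT n).ge.trans LinearMap.map_le_range)
  rintro _ ⟨t, rfl⟩
  rw [← sum_support_decompose 𝒯 t, map_sum]
  exact sum_mem fun i _ ↦ Submodule.mem_iSup_of_mem i
    ((hdegT i).le (Submodule.mem_map_of_mem (decompose 𝒯 t i).2))

include hψ hdegT hposR h0R hposS h0S in
/-- Two socle elements over a homogeneous parameter rule out the Gorenstein property. -/
theorem not_gorenstein [Algebra.FiniteType k R] [Algebra.FiniteType k S] [Nontrivial R] [Nontrivial S]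
    {D : ℤ} (hD : 0 < D) {x : R} (hx : x ∈ 𝒜 D) (hxr : ∀ a, x * a = 0 → a = 0)
    {y : S} (hy : y ∈ ℬ D) (hyr : ∀ a, y * a = 0 → a = 0) {a : ℤ} (ha : 0 ≤ a)
    (hRa : ∀ i : ℤ, a < i → ∀ v ∈ 𝒜 (i + D), ∃ b ∈ 𝒜 i, v = x * b)
    (hSa : ∀ i : ℤ, a < i → ∀ v ∈ ℬ (i + D), ∃ b ∈ ℬ i, v = y * b)
    {z : Fin 2 → R ⊗[k] S}
    (hz : ∀ i, z i ∈ Submodule.span k {w : R ⊗[k] S | ∃ p ∈ 𝒜 (a + D), ∃ r ∈ ℬ (a + D), w = p ⊗ₜ[k] r})
    (hind : ∀ c : Fin 2 → k, ∑ i, c i • z i ∈ Submodule.span k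
      {w : R ⊗[k] S | ∃ p ∈ 𝒜 a, ∃ r ∈ ℬ a, w = (x * p) ⊗ₜ[k] (y * r)} → ∀ i, c i = 0) :
    ¬ LocCoh.IsGorensteinRing T := by
  classical
  intro hG
  have := isNoetherianRing_T 𝒜 ℬ 𝒯 ψ hψ hdegT
  have hposT := pos_T 𝒜 ℬ 𝒯 ψ hψ hdegT hposR
  have h0T := zero_T 𝒜 ℬ 𝒯 ψ hψ hdegT h0R h0S
  have : Nontrivial T := ⟨0, 1, fun h ↦ zero_ne_one ((map_zero ψ).symm.trans ((congrArg ψ h).trans (map_one ψ)))⟩
  have := CMDim.irr_isMaximal 𝒯 hposT h0T
  obtain ⟨t, htD, ht⟩ := exists_preimage 𝒜 ℬ 𝒯 ψ hdegT hx hy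
  have htreg : IsSMulRegular T t := isSMulRegular_iff_right_eq_zero_of_smul.2 fun b hb ↦ hψ (by
    have e : LinearMap.mulLeft k (x ⊗ₜ[k] y) =
        TensorProduct.map (LinearMap.mulLeft k x) (LinearMap.mulLeft k y) :=
      TensorProduct.ext' fun p r => by simp [Algebra.TensorProduct.tmul_mul_tmul]
    have hinj : Function.Injective (LinearMap.mulLeft k (x ⊗ₜ[k] y)) := by
      rw [e]
      exact CMDim.map_injective' ((injective_iff_map_eq_zero _).mpr hxr)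
        ((injective_iff_map_eq_zero _).mpr hyr)
    rw [map_zero]
    refine hinj ?_
    show x ⊗ₜ[k] y * ψ b = x ⊗ₜ[k] y * 0
    rw [← ht, ← map_mul, show t * b = 0 from hb, map_zero, mul_zero])
  -- degrees above `a + D` are multiples of `t`
  have hhigh : ∀ i : ℤ, a + D < i → ∀ b ∈ 𝒯 i, b ∈ Ideal.span {t} := by
    intro i hi b hb
    have h : ψ.toLinearMap b ∈ (𝒯 i).map ψ.toLinearMap := Submodule.mem_map_of_mem hb
    rw [hdegT] at h
    have h' : ψ b ∈ ((Ideal.span {t}).restrictScalars k).map ψ.toLinearMap := by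
      refine Submodule.span_le.2 ?_ h
      rintro _ ⟨p, hp, r, hr, rfl⟩
      obtain ⟨p', hp', rfl⟩ := hRa (i - D) (by omega) p (by rwa [sub_add_cancel])
      obtain ⟨r', hr', rfl⟩ := hSa (i - D) (by omega) r (by rwa [sub_add_cancel])
      obtain ⟨b', -, hb'⟩ := exists_preimage 𝒜 ℬ 𝒯 ψ hdegT hp' hr'
      refine ⟨t * b', Ideal.mul_mem_right _ _ (Ideal.mem_span_singleton_self t), ?_⟩
      show ψ (t * b') = _
      rw [map_mul, ht, hb', Algebra.TensorProduct.tmul_mul_tmul]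
    obtain ⟨b', hb', hbb⟩ := h'
    exact hψ hbb ▸ hb'
  have hrad : CMDim.irr 𝒯 ≤ (Ideal.span {t}).radical := by
    refine Ideal.span_le.2 ?_
    rintro b ⟨i, hi, hb⟩
    refine ⟨(a + D + 1).toNat, hhigh ((a + D + 1).toNat * i) ?_ _ ?_⟩
    · have h2 : ((a + D + 1).toNat : ℤ) * 1 ≤ ((a + D + 1).toNat : ℤ) * i :=
        mul_le_mul_of_nonneg_left hi (Int.natCast_nonneg _)
      have h3 : ((a + D + 1).toNat : ℤ) = a + D + 1 := Int.toNat_of_nonneg (by omega)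
      linarith
    · simpa [nsmul_eq_mul] using SetLike.pow_mem_graded (A := 𝒯) (a + D + 1).toNat hb
  obtain ⟨N, hN⟩ := Ideal.exists_pow_le_of_le_radical_of_fg hrad (IsNoetherian.noetherian _)
  have hz' : ∀ i, ∃ b ∈ 𝒯 (a + D), ψ b = z i := fun i ↦ Submodule.mem_map.1 ((hdegT _).ge (hz i))
  choose b hb hbz using hz'
  have hbsoc : ∀ i, ∀ c ∈ CMDim.irr 𝒯, c * b i ∈ Ideal.span {t} := by
    intro i c hc
    induction hc using Submodule.span_induction with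
    | mem c hc =>
      obtain ⟨j, hj, hcj⟩ := hc
      exact hhigh (j + (a + D)) (by omega) _ (SetLike.mul_mem_graded hcj (hb i))
    | zero => simp
    | add c d _ _ hc hd => rw [add_mul]; exact add_mem hc hd
    | smul e c _ hc => rw [smul_eq_mul, mul_assoc]; exact Ideal.mul_mem_left _ _ hc
  -- the socle is a line
  obtain ⟨-, hlen, -⟩ := Veronese.Local.length_ext (CMDim.irr 𝒯) [t]
    (fun c hc ↦ by
      rw [List.mem_singleton.1 hc]
      exact Ideal.subset_span ⟨D, hD, htD⟩)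
    (by rw [isWeaklyRegular_singleton_iff]; exact htreg) (N := N)
    (by rw [Ideal.ofList_singleton]; exact hN)
  have hA := hG.isGorensteinLocalRing_localization (CMDim.irr 𝒯)
  obtain ⟨e, he⟩ := hA.exists_hasInjectiveDimensionLT
  obtain ⟨d, hd, -, -, -⟩ := Goren.Basic.exists_dim he
  obtain ⟨hlow, htop⟩ := Bass.GorLocal.length_ext_self d hd
  have hind' : ∀ c : Fin 2 → k, (∑ i, c i • b i) ∈ Ideal.span {t} → ∀ i, c i = 0 := by
    intro c hc
    refine hind c ?_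
    obtain ⟨e, he⟩ := Ideal.mem_span_singleton.1 hc
    have h1 : ∑ i, c i • b i = t * ((decompose 𝒯 e a : 𝒯 a) : T) := by
      have h2 := coe_decompose_mul_add_of_right_mem 𝒯 (a := e) (i := a) htD
      rw [mul_comm e, ← he,
        decompose_of_mem_same 𝒯 (sum_mem fun i _ ↦ Submodule.smul_mem _ _ (hb i))] at h2
      rw [h2, mul_comm]
    have h3 := congrArg ψ h1
    simp only [map_sum, map_smul, hbz, map_mul, ht] at h3
    rw [h3]
    have h4 : ψ ((decompose 𝒯 e a : 𝒯 a) : T) ∈ (𝒯 a).map ψ.toLinearMap :=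
      Submodule.mem_map_of_mem (decompose 𝒯 e a).2
    rw [hdegT] at h4
    generalize ψ ((decompose 𝒯 e a : 𝒯 a) : T) = w' at h4 ⊢
    induction h4 using Submodule.span_induction with
    | mem w hw =>
      obtain ⟨p, hp, r, hr, rfl⟩ := hw
      exact Submodule.subset_span ⟨p, hp, r, hr, Algebra.TensorProduct.tmul_mul_tmul _ _ _ _⟩
    | zero => rw [mul_zero]; exact zero_mem _
    | add u v _ _ hu hv => rw [mul_add]; exact add_mem hu hv
    | smul s u _ hu => rw [mul_smul_comm]; exact Submodule.smul_mem _ _ hu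
  rw [Ideal.ofList_singleton] at hlen
  let Z : Fin 2 → LocCoh.torsionBy (CMDim.irr 𝒯) (T ⧸ Ideal.span {t}) := fun i ↦
    ⟨Ideal.Quotient.mk _ (b i), (Submodule.mem_torsionBySet_iff _ _).2 fun c ↦
      Ideal.Quotient.eq_zero_iff_mem.2 (hbsoc i _ c.2)⟩
  have hZ0 : Z 0 ≠ 0 := fun h ↦ by
    have := hind' ![1, 0] (by simpa using Ideal.Quotient.eq_zero_iff_mem.1 (congrArg Subtype.val h)) 0
    simp at this
  have hd1 : d = 1 := by
    by_contra hne
    have := hlow [t].length (fun h ↦ hne h.symm)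
    rw [Module.length_eq_zero, eq_comm, Module.length_eq_zero_iff] at hlen
    exact hZ0 (Subsingleton.elim _ _)
  subst hd1
  rw [List.length_singleton, htop] at hlen
  have := Module.length_eq_one_iff.1 hlen.symm
  obtain ⟨s, hs⟩ := IsSimpleModule.toSpanSingleton_surjective T hZ0 (Z 1)
  have hs' : b 1 - s * b 0 ∈ Ideal.span {t} := Ideal.Quotient.eq.1 (congrArg Subtype.val hs).symm
  obtain ⟨c, hc⟩ := Submodule.mem_span_singleton.1 (h0T.le (decompose 𝒯 s 0).2)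
  have hmem : s - c • (1 : T) ∈ CMDim.irr 𝒯 := by
    have e1 : (decompose 𝒯 s 0 : T) +
        ∑ i ∈ (insert (0 : ℤ) (decompose 𝒯 s).support).erase 0, (decompose 𝒯 s i : T) = s := by
      rw [Finset.add_sum_erase _ (fun i ↦ (decompose 𝒯 s i : T)) (Finset.mem_insert_self _ _),
        Finset.sum_insert_of_eq_zero_if_notMem, sum_support_decompose 𝒯 s]
      intro h; simp [DFinsupp.notMem_support_iff.mp h]
    rw [hc, ← eq_sub_iff_add_eq'.2 e1]
    exact sum_mem fun i hi ↦ by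
      rcases lt_trichotomy i 0 with h | h | h
      · rw [Sop.coe_decompose_neg 𝒯 hposT h s]; exact Ideal.zero_mem _
      · exact absurd h (Finset.ne_of_mem_erase hi)
      · exact Ideal.subset_span ⟨i, h, (decompose 𝒯 s i).2⟩
  have := hind' ![-c, 1] (by
    have h5 := add_mem hs' (hbsoc 0 _ hmem)
    simp only [Fin.sum_univ_two, Matrix.cons_val_zero, Matrix.cons_val_one]
    convert h5 using 1
    simp [Algebra.smul_def]
    ring) 1
  simp at this

include hψ hdegT hposS h0S in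
/-- The Segre product with the polynomial line is the ring itself. -/
theorem nonempty_equiv [Nontrivial S]
    (hstdS : Ideal.span (⋃ n ∈ Set.Ioi (0 : ℤ), (ℬ n : Set S)) = Ideal.span ((ℬ 1 : Submodule k S) : Set S))
    {l : S} (hl : l ∈ ℬ 1) (hbij : Function.Bijective (Polynomial.aeval (R := k) l))
    (hposR : ∀ n : ℤ, n < 0 → 𝒜 n = ⊥) : Nonempty (T ≃+* R) := by
  classical
  let eS : Polynomial k ≃ₐ[k] S := AlgEquiv.ofBijective _ hbij
  let ev : S →ₐ[k] k := (Polynomial.aeval (1 : k)).comp eS.symm.toAlgHom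
  have hev : ∀ n : ℕ, ev (l ^ n) = 1 := fun n ↦ by
    have : eS.symm l = Polynomial.X :=
      eS.injective (by rw [AlgEquiv.apply_symm_apply]; simp [eS])
    simp [ev, map_pow, this]
  let g : T →ₐ[k] R := ((Algebra.TensorProduct.rid k k R).toAlgHom.comp
    (Algebra.TensorProduct.map (AlgHom.id k R) ev)).comp ψ
  have hline : ℬ 1 ≤ Submodule.span k {l} := fun b hb ↦ by
    obtain ⟨p, rfl⟩ := hbij.2 b
    refine Submodule.mem_span_singleton.2 ⟨p.coeff 1, ?_⟩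
    rw [← decompose_of_mem_same ℬ hb, ← GradedAlgebra.proj_apply,
      Polynomial.aeval_eq_sum_range' (p := p) (show p.natDegree < p.natDegree + 2 by omega), map_sum,
      Finset.sum_eq_single 1]
    · rw [map_smul, pow_one, GradedAlgebra.proj_apply, decompose_of_mem_same ℬ hl]
    · intro i _ hi
      rw [map_smul, GradedAlgebra.proj_apply,
        decompose_of_mem_ne ℬ (by simpa using SetLike.pow_mem_graded i hl) (by exact_mod_cast hi),
        smul_zero]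
    · intro hn
      exact absurd (Finset.mem_range.2 (by omega)) hn
  -- on each degree
  have hdeg : ∀ (n : ℕ), ∀ b ∈ 𝒯 (n : ℤ), g b ∈ 𝒜 n ∧ ψ b = g b ⊗ₜ[k] (l ^ n) := by
    intro n b hb
    have h : ψ.toLinearMap b ∈ (𝒯 (n : ℤ)).map ψ.toLinearMap := Submodule.mem_map_of_mem hb
    rw [hdegT] at h
    have key : ∀ w ∈ Submodule.span k {w : R ⊗[k] S | ∃ a ∈ 𝒜 (n : ℤ), ∃ c ∈ ℬ (n : ℤ), w = a ⊗ₜ[k] c},
        ∃ a ∈ 𝒜 (n : ℤ), w = a ⊗ₜ[k] (l ^ n) := by
      intro w hw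
      induction hw using Submodule.span_induction with
      | mem w hw =>
        obtain ⟨a, ha, c, hc, rfl⟩ := hw
        obtain ⟨e, rfl⟩ := Submodule.mem_span_singleton.1
          (Dim1.eq_span_pow ℬ hposS h0S hstdS l hline n hc)
        exact ⟨e • a, (𝒜 _).smul_mem e ha, by rw [TensorProduct.smul_tmul]⟩
      | zero => exact ⟨0, zero_mem _, (TensorProduct.zero_tmul _ _).symm⟩
      | add u v _ _ hu hv =>
        obtain ⟨p, hp, rfl⟩ := hu
        obtain ⟨r, hr, rfl⟩ := hv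
        exact ⟨p + r, add_mem hp hr, (TensorProduct.add_tmul _ _ _).symm⟩
      | smul e u _ hu =>
        obtain ⟨p, hp, rfl⟩ := hu
        exact ⟨e • p, Submodule.smul_mem _ e hp, (TensorProduct.smul_tmul' _ _ _)⟩
    obtain ⟨a, ha, hab⟩ := key _ h
    have hga : g b = a := by
      show (Algebra.TensorProduct.rid k k R) (Algebra.TensorProduct.map (AlgHom.id k R) ev (ψ b)) = a
      rw [show ψ b = a ⊗ₜ[k] (l ^ n) from hab]
      simp [hev]
    exact ⟨hga ▸ ha, hga.symm ▸ hab⟩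
  have hposT := pos_T 𝒜 ℬ 𝒯 ψ hψ hdegT hposR
  refine ⟨RingEquiv.ofBijective g.toRingHom ⟨?_, fun a ↦ ?_⟩⟩
  · refine (injective_iff_map_eq_zero _).2 fun b hb ↦ hψ ?_
    rw [map_zero, ← sum_support_decompose 𝒯 b, map_sum]
    have hterm : ∀ i, g (decompose 𝒯 b i : T) ∈ 𝒜 i := fun i ↦ by
      rcases lt_or_ge i 0 with h | h
      · rw [Sop.coe_decompose_neg 𝒯 hposT h b, map_zero]; exact zero_mem _
      · obtain ⟨i, rfl⟩ := Int.eq_ofNat_of_zero_le h
        exact (hdeg i _ (decompose 𝒯 b (i : ℤ)).2).1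
    refine Finset.sum_eq_zero fun i hi ↦ ?_
    have h1 : g (decompose 𝒯 b i : T) = 0 := by
      have h2 : g b = 0 := hb
      rw [← sum_support_decompose 𝒯 b, map_sum] at h2
      have h3 := congrArg (GradedAlgebra.proj 𝒜 i) h2
      rw [map_sum, map_zero] at h3
      simp only [GradedAlgebra.proj_apply] at h3
      rw [Finset.sum_eq_single i (fun j _ hj ↦ decompose_of_mem_ne 𝒜 (hterm j) hj)
        (fun h ↦ absurd hi h), decompose_of_mem_same 𝒜 (hterm i)] at h3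
      exact h3
    rcases lt_or_ge i 0 with h | h
    · rw [Sop.coe_decompose_neg 𝒯 hposT h b, map_zero]
    · obtain ⟨i, rfl⟩ := Int.eq_ofNat_of_zero_le h
      rw [(hdeg i _ (decompose 𝒯 b (i : ℤ)).2).2, h1, TensorProduct.zero_tmul]
  · suffices h : a ∈ g.range from h
    rw [← sum_support_decompose 𝒜 a]
    refine Subalgebra.sum_mem _ fun i _ ↦ ?_
    rcases lt_or_ge i 0 with h | h
    · rw [Sop.coe_decompose_neg 𝒜 hposR h a]; exact zero_mem _
    · obtain ⟨i, rfl⟩ := Int.eq_ofNat_of_zero_le h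
      obtain ⟨b, hb, hbe⟩ := exists_preimage 𝒜 ℬ 𝒯 ψ hdegT (decompose 𝒜 a (i : ℤ)).2
        (show l ^ i ∈ ℬ (i : ℤ) by simpa using SetLike.pow_mem_graded i hl)
      refine ⟨b, ?_⟩
      show (Algebra.TensorProduct.rid k k R) (Algebra.TensorProduct.map (AlgHom.id k R) ev (ψ b)) = _
      rw [hbe]
      simp [hev]

include hψ hdegT hposR h0R hposS h0S in
/-- The theorem. -/
theorem main [Algebra.FiniteType k R] [Algebra.FiniteType k S]
    [LocCoh.IsCohenMacaulayRing R] [LocCoh.IsCohenMacaulayRing S]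
    (hstdR : Ideal.span (⋃ n ∈ Set.Ioi (0 : ℤ), (𝒜 n : Set R)) = Ideal.span ((𝒜 1 : Submodule k R) : Set R))
    (hstdS : Ideal.span (⋃ n ∈ Set.Ioi (0 : ℤ), (ℬ n : Set S)) = Ideal.span ((ℬ 1 : Submodule k S) : Set S))
    (hr : ringKrullDim R = 1) (hs : ringKrullDim S = 1) (hR : IsEmpty (R ≃ₐ[k] Polynomial k))
    [hG : LocCoh.IsGorensteinRing T] :
    Nonempty (S ≃ₐ[k] Polynomial k) ∧ LocCoh.IsGorensteinRing R := by
  classical
  have : Nontrivial R := by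
    by_contra hn
    rw [not_nontrivial_iff_subsingleton] at hn
    rw [ringKrullDim_eq_bot_of_subsingleton] at hr
    exact absurd hr (by decide)
  have : Nontrivial S := by
    by_contra hn
    rw [not_nontrivial_iff_subsingleton] at hn
    rw [ringKrullDim_eq_bot_of_subsingleton] at hs
    exact absurd hs (by decide)
  obtain ⟨D₁, x, N₁, hD₁, hx, hxr, hxN⟩ := exists_stable 𝒜 hposR h0R hstdR hr
  obtain ⟨D₂, y, N₂, hD₂, hy, hyr, hyN⟩ := exists_stable ℬ hposS h0S hstdS hs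
  suffices hS : ∃ l ∈ ℬ 1, Function.Bijective (Polynomial.aeval (R := k) l) by
    obtain ⟨l, hl, hb⟩ := hS
    obtain ⟨e⟩ := nonempty_equiv 𝒜 ℬ 𝒯 ψ hψ hdegT hposS h0S hstdS hl hb hposR
    exact ⟨⟨(AlgEquiv.ofBijective _ hb).symm⟩, Goren.Rings.isGorensteinRing_of_ringEquiv e⟩
  by_contra hS
  push Not at hS
  -- common degree
  have hpow : ∀ {A : Type u} [CommRing A] [Algebra k A] (𝒞 : ℤ → Submodule k A) [GradedAlgebra 𝒞]
      {d : ℕ} {z : A} {M : ℕ}, z ∈ 𝒞 d → (∀ a, z * a = 0 → a = 0) →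
      (∀ n : ℤ, (M : ℤ) ≤ n → ∀ b ∈ 𝒞 n, ∃ a ∈ 𝒞 (n - d), b = z * a) → ∀ j : ℕ,
      z ^ j ∈ 𝒞 ((j * d : ℕ) : ℤ) ∧ (∀ a, z ^ j * a = 0 → a = 0) ∧
      (∀ n : ℤ, ((M + j * d : ℕ) : ℤ) ≤ n → ∀ b ∈ 𝒞 n, ∃ a ∈ 𝒞 (n - (j * d : ℕ)), b = z ^ j * a) := by
    intro A _ _ 𝒞 _ d z M hz hzr hM j
    refine ⟨by simpa [nsmul_eq_mul] using SetLike.pow_mem_graded (A := 𝒞) j hz, ?_, ?_⟩
    · induction j with
      | zero => simp
      | succ j ih => intro a ha; exact hzr a (ih _ (by rw [← mul_assoc, ← pow_succ]; exact ha))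
    · induction j with
      | zero => intro n _ b hb; exact ⟨b, by simpa using hb, by simp⟩
      | succ j ih =>
        intro n hn b hb
        push_cast at hn
        obtain ⟨a, ha, rfl⟩ := hM n (by nlinarith) b hb
        obtain ⟨a', ha', rfl⟩ := ih (n - d) (by push_cast; nlinarith) a ha
        refine ⟨a', ?_, by ring⟩
        convert ha' using 2
        push_cast; ring
  obtain ⟨hx', hxr', hxN'⟩ := hpow 𝒜 hx hxr hxN D₂
  obtain ⟨hy', hyr', hyN'⟩ := hpow ℬ hy hyr hyN D₁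
  rw [show D₂ * D₁ = D₁ * D₂ from mul_comm _ _] at hx' hxN'
  have hD : 0 < D₁ * D₂ := Nat.mul_pos hD₁ hD₂
  have hpolyR : ∀ l ∈ 𝒜 1, ¬ Function.Bijective (Polynomial.aeval (R := k) l) :=
    fun l _ hb ↦ hR.elim (AlgEquiv.ofBijective _ hb).symm
  obtain ⟨a₁, ha₁, ⟨v₁, hv₁, hv₁x⟩, hh₁⟩ := exists_top 𝒜 hposR h0R hstdR hD hx' hxr' hxN' hpolyR
  obtain ⟨a₂, ha₂, ⟨v₂, hv₂, hv₂y⟩, hh₂⟩ := exists_top ℬ hposS h0S hstdS hD hy' hyr' hyN' hS
  have hpairS : ∀ n : ℤ, 1 ≤ n → ∃ w : Fin 2 → S, LinearIndependent k w ∧ ∀ i, w i ∈ ℬ n := fun n hn ↦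
    exists_pair fun z hz hle ↦ by
      obtain ⟨l, hl, hb⟩ := exists_bijective_aeval ℬ hposS h0S hstdS hD₂ hy hyr hn hz hle
      exact hS l hl hb
  have hpairR : ∀ n : ℤ, 1 ≤ n → ∃ w : Fin 2 → R, LinearIndependent k w ∧ ∀ i, w i ∈ 𝒜 n := fun n hn ↦
    exists_pair fun z hz hle ↦ by
      obtain ⟨l, hl, hb⟩ := exists_bijective_aeval 𝒜 hposR h0R hstdR hD₁ hx hxr hn hz hle
      exact hpolyR l hl hb
  rcases le_total a₂ a₁ with hle | hle
  · obtain ⟨w, hw, hwm⟩ := hpairS (a₁ + (D₁ * D₂ : ℕ)) (by omega)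
    refine not_gorenstein 𝒜 ℬ 𝒯 ψ hψ hdegT hposR h0R hposS h0S (by exact_mod_cast hD) hx' hxr' hy'
      hyr' ha₁ hh₁ (fun i hi ↦ hh₂ i (by omega)) (z := fun i ↦ v₁ ⊗ₜ[k] w i)
      (fun i ↦ Submodule.subset_span ⟨_, hv₁, _, hwm i, rfl⟩) (fun c hc ↦ ?_) hG
    refine eq_zero_of_tmul_mem (A := (𝒜 a₁).map (LinearMap.mulLeft k (x ^ D₂))) ?_ hw
      (W := _) ?_ hc
    · rintro ⟨b, hb, hbv⟩
      exact hv₁x b hb hbv.symm
    · refine Submodule.span_mono ?_
      rintro _ ⟨p, hp, r, -, rfl⟩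
      exact ⟨_, Submodule.mem_map_of_mem hp, _, rfl⟩
  · obtain ⟨w, hw, hwm⟩ := hpairR (a₂ + (D₁ * D₂ : ℕ)) (by omega)
    refine not_gorenstein 𝒜 ℬ 𝒯 ψ hψ hdegT hposR h0R hposS h0S (by exact_mod_cast hD) hx' hxr' hy'
      hyr' ha₂ (fun i hi ↦ hh₁ i (by omega)) hh₂ (z := fun i ↦ w i ⊗ₜ[k] v₂)
      (fun i ↦ Submodule.subset_span ⟨_, hwm i, _, hv₂, rfl⟩) (fun c hc ↦ ?_) hG
    refine eq_zero_of_tmul_mem (v := v₂) (A := (ℬ a₂).map (LinearMap.mulLeft k (y ^ D₁))) ?_ hw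
      (W := Submodule.map (TensorProduct.comm k R S).toLinearMap (Submodule.span k
        {z | ∃ p ∈ 𝒜 a₂, ∃ r ∈ ℬ a₂, z = (x ^ D₂ * p) ⊗ₜ[k] (y ^ D₁ * r)})) ?_ (c := c) ?_
    · rintro ⟨b, hb, hbv⟩
      exact hv₂y b hb hbv.symm
    rotate_left
    · have := Submodule.mem_map_of_mem (f := (TensorProduct.comm k R S).toLinearMap) hc
      simpa using this
    · rw [Submodule.map_span]
      refine Submodule.span_mono ?_
      rintro _ ⟨_, ⟨p, -, r, hr, rfl⟩, rfl⟩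
      exact ⟨_, Submodule.mem_map_of_mem hr, _, rfl⟩

end Two

end Groth.Agent.H19.Segre.DimOne
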